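import Mathlib

/-!
# Derived length of wreath products by `2`-groups of permutations
-/

set_option autoImplicit false

namespace CfsgLib.KnownC.SylowDerived

open scoped commutatorElement

universe u v

/-- A derived series below a subgroup, then inside it. -/
theorem derived_add_bot {G : Type*} [Group G] (N : Subgroup G) {a b : ℕ}
    (ha : derivedSeries G a ≤ N) (hb : derivedSeries N b = ⊥) : derivedSeries G (a + b) = ⊥ := by
  have h : ∀ i, derivedSeries G (a + i) ≤ (derivedSeries N i).map N.subtype := by
    intro i
    induction i with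
    | zero => simpa [← MonoidHom.range_eq_map] using ha
    | succ i ih =>
      rw [← Nat.add_assoc, derivedSeries_succ, derivedSeries_succ, Subgroup.map_commutator]
      exact Subgroup.commutator_mono ih ih
  exact le_bot_iff.1 ((h b).trans (by rw [hb, Subgroup.map_bot]))

/-- Moving triviality of a derived term along an isomorphism. -/
theorem derived_bot_equiv {G H : Type*} [Group G] [Group H] (e : G ≃* H) (n : ℕ) :
    derivedSeries G n = ⊥ ↔ derivedSeries H n = ⊥ := by
  constructor <;> intro h
  · rw [← map_derivedSeries_eq (f := e.toMonoidHom) e.surjective n, h, Subgroup.map_bot]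
  · rw [← map_derivedSeries_eq (f := e.symm.toMonoidHom) e.symm.surjective n, h, Subgroup.map_bot]

/-- `2`-groups of permutations of fewer than `2 ^ (m + 1)` points have derived length at most `m`. -/
theorem derived_le_ker {P : Type u} [Group P] [Finite P] (hP : IsPGroup 2 P) :
    ∀ (N : ℕ) {α : Type v} [Finite α] (f : P →* Equiv.Perm α) (m : ℕ),
      Nat.card α = N → N < 2 ^ (m + 1) → derivedSeries P m ≤ f.ker := by
  classical
  intro N
  induction N using Nat.strong_induction_on with
  | _ N ih =>
  intro α _ f m hN hm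
  rcases le_or_gt N 1 with h1 | h1
  · intro g _
    rw [MonoidHom.mem_ker]
    haveI : Subsingleton α := Finite.card_le_one_iff_subsingleton.1 (hN ▸ h1)
    exact Equiv.ext fun x => Subsingleton.elim _ _
  by_cases htr : ∀ x y : α, ∃ g, f g x = y
  swap
  · push Not at htr
    obtain ⟨x₀, y₀, hxy⟩ := htr
    let S : α → Prop := fun x => ∃ g, f g x₀ = x
    have hS : ∀ g x, S (f g x) ↔ S x := by
      intro g x
      constructor
      · rintro ⟨k, hk⟩
        exact ⟨g⁻¹ * k, by rw [map_mul, Equiv.Perm.mul_apply, hk, ← Equiv.Perm.mul_apply, ← map_mul]; simp⟩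
      · rintro ⟨k, hk⟩
        exact ⟨g * k, by rw [map_mul, Equiv.Perm.mul_apply, hk]⟩
    have key : ∀ (T : α → Prop) (hT : ∀ g x, T (f g x) ↔ T x) (z : α), ¬ T z →
        ∀ g ∈ derivedSeries P m, ∀ x, T x → f g x = x := by
      intro T hT z hz g hg x hx
      let f' : P →* Equiv.Perm {x // T x} :=
        MonoidHom.mk' (fun g => (f g).subtypePerm (hT g)) fun a b => by
          refine Equiv.ext fun w => Subtype.ext ?_
          simp [map_mul]; rfl
      have hlt : Nat.card {x // T x} < N := by
        rw [← hN]
        haveI := Fintype.ofFinite α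
        rw [Nat.card_eq_fintype_card, Nat.card_eq_fintype_card]
        exact Fintype.card_subtype_lt hz
      have h := ih _ hlt f' m rfl (by omega) hg
      rw [MonoidHom.mem_ker] at h
      exact congrArg Subtype.val (Equiv.congr_fun h ⟨x, hx⟩)
    intro g hg
    rw [MonoidHom.mem_ker]
    refine Equiv.ext fun x => ?_
    by_cases hx : S x
    · exact key S hS y₀ (fun ⟨g, h⟩ => hxy g h) g hg x hx
    · exact key (fun x => ¬ S x) (fun g x => not_congr (hS g x)) x₀
        (fun h => h ⟨1, by simp⟩) g hg x hx
  -- transitive: a central involution without fixed points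
  obtain ⟨m, rfl⟩ : ∃ k, m = k + 1 := ⟨m - 1, by
    rcases m with _ | m
    · norm_num at hm
      omega
    · rfl⟩
  haveI : Nonempty α := (Nat.card_pos_iff.1 (by omega : 0 < Nat.card α)).1
  haveI : Nontrivial α := Finite.one_lt_card_iff_nontrivial.1 (by omega)
  haveI : Nontrivial f.range := by
    obtain ⟨x, y, hne⟩ := exists_pair_ne α
    obtain ⟨g, hg⟩ := htr x y
    refine ⟨⟨⟨f g, g, rfl⟩, 1, fun h => hne ?_⟩⟩
    rw [← hg, show f g = 1 from congrArg Subtype.val h]
    rfl
  have hR : IsPGroup 2 f.range := hP.of_surjective f.rangeRestrict f.rangeRestrict_surjective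
  haveI := hR.center_nontrivial
  obtain ⟨c, hc⟩ : ∃ c : Subgroup.center f.range, orderOf c = 2 := by
    refine exists_prime_orderOf_dvd_card' 2 ?_
    obtain ⟨k, hk⟩ := IsPGroup.iff_card.1 (hR.to_subgroup (Subgroup.center f.range))
    rw [hk]
    refine dvd_pow_self _ fun h0 => ?_
    rw [h0, pow_zero] at hk
    exact absurd hk (Finite.one_lt_card (α := Subgroup.center f.range)).ne'
  set z : Equiv.Perm α := ((c : f.range) : Equiv.Perm α) with hz
  have hz2 : z * z = 1 := by
    have h := pow_orderOf_eq_one c
    rw [hc, sq] at h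
    exact congrArg (fun t : Subgroup.center f.range => ((t : f.range) : Equiv.Perm α)) h
  have hcomm : ∀ g x, f g (z x) = z (f g x) := by
    intro g x
    have h := congrArg Subtype.val (Subgroup.mem_center_iff.1 c.2 ⟨f g, g, rfl⟩)
    exact Equiv.congr_fun h x
  have hzz : ∀ x, z (z x) = x := fun x => Equiv.congr_fun hz2 x
  have hfpf : ∀ x, z x ≠ x := by
    intro x hx
    have h1 : z = 1 := Equiv.ext fun y => by
      obtain ⟨g, rfl⟩ := htr x y
      rw [← hcomm, hx]
      rfl
    have h2 : c = 1 := Subtype.ext (Subtype.ext h1)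
    rw [h2, orderOf_one] at hc
    omega
  let r : Setoid α :=
    ⟨fun x y => y = x ∨ y = z x, fun x => Or.inl rfl, fun {x y} h => by
      rcases h with rfl | rfl
      · exact Or.inl rfl
      · exact Or.inr (hzz x).symm, fun {x y w} h h' => by
      rcases h with rfl | rfl <;> rcases h' with rfl | rfl
      · exact Or.inl rfl
      · exact Or.inr rfl
      · exact Or.inr rfl
      · exact Or.inl (hzz x)⟩
  have hresp : ∀ g x y, r x y → r (f g x) (f g y) := fun g x y h => by
    rcases h with rfl | rfl
    · exact Or.inl rfl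
    · exact Or.inr (hcomm g x)
  haveI : Finite (Quotient r) := Finite.of_surjective _ Quotient.mk_surjective
  let mapQ : P → Quotient r → Quotient r := fun g => Quotient.map (f g) (hresp g)
  have hmul : ∀ g g' c, mapQ (g * g') c = mapQ g (mapQ g' c) := fun g g' c => by
    induction c using Quotient.ind
    simp [mapQ, Quotient.map_mk, map_mul]
  have hone : ∀ c, mapQ 1 c = c := fun c => by
    induction c using Quotient.ind
    simp [mapQ, Quotient.map_mk]
  let f' : P →* Equiv.Perm (Quotient r) :=
    MonoidHom.mk' (fun g => ⟨mapQ g, mapQ g⁻¹,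
      fun c => by rw [← hmul, inv_mul_cancel, hone], fun c => by rw [← hmul, mul_inv_cancel, hone]⟩)
      fun g g' => Equiv.ext fun c => hmul g g' c
  have hcard : 2 * Nat.card (Quotient r) ≤ N := by
    rw [← hN, mul_comm, ← show Nat.card Bool = 2 by simp, ← Nat.card_prod]
    refine Nat.card_le_card_of_injective (fun t : Quotient r × Bool => if t.2 then z t.1.out else t.1.out) ?_
    rintro ⟨c, b⟩ ⟨c', b'⟩ h
    have hcc : c = c' := by
      rw [← Quotient.out_eq c, ← Quotient.out_eq c']
      refine Quotient.sound ?_
      cases b <;> cases b' <;> simp at h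
      · rw [h]
      · exact Or.inr (by rw [h, hzz])
      · exact Or.inr h.symm
      · rw [h]
    subst hcc
    cases b <;> cases b' <;> simp at h
    · rfl
    · exact absurd h.symm (hfpf _)
    · exact absurd h (hfpf _)
    · rfl
  have hm' : derivedSeries P m ≤ f'.ker :=
    ih _ (by omega) f' m rfl (by
      rw [pow_succ] at hm
      omega)
  have hflip : ∀ g ∈ derivedSeries P m, ∀ x, f g x = x ∨ f g x = z x := by
    intro g hg x
    have h1 : f' g (Quotient.mk r x) = Quotient.mk r x := by
      rw [MonoidHom.mem_ker.1 (hm' hg)]; rfl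
    have h2 : Quotient.mk r (f g x) = Quotient.mk r x := h1
    rcases Quotient.exact h2.symm with h | h
    · exact Or.inl h
    · exact Or.inr h
  rw [derivedSeries_succ, Subgroup.commutator_le]
  intro g hg g' hg'
  rw [MonoidHom.mem_ker, map_commutatorElement, commutatorElement_eq_one_iff_commute]
  refine Equiv.ext fun x => ?_
  rw [Equiv.Perm.mul_apply, Equiv.Perm.mul_apply]
  rcases hflip g hg x with h | h <;> rcases hflip g' hg' x with h' | h' <;> simp [h, h', hcomm]

/-- Permuting coordinates. -/
def shift (R : Type u) [Group R] (α : Type v) : Equiv.Perm α →* MulAut (α → R) where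
  toFun σ :=
    { toFun := fun g i => g (σ.symm i)
      invFun := fun g i => g (σ i)
      left_inv := fun g => funext fun i => congrArg g (σ.symm_apply_apply i)
      right_inv := fun g => funext fun i => congrArg g (σ.apply_symm_apply i)
      map_mul' := fun _ _ => rfl }
  map_one' := rfl
  map_mul' _ _ := rfl

/-- The wreath product of `R` by a permutation group. -/
abbrev Sd (R : Type u) [Group R] {α : Type v} (W : Subgroup (Equiv.Perm α)) :=
  (α → R) ⋊[(shift R α).comp W.subtype] W

theorem shift_apply {R : Type u} [Group R] {α : Type v} (σ : Equiv.Perm α) (g : α → R) (i : α) :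
    shift R α σ g i = g (σ.symm i) := rfl

theorem perm_zmod_two (π π' : Equiv.Perm (ZMod 2)) : π * π' = π' * π := by
  revert π π'
  decide

/-- The permutations of `α × ZMod 2` from a permutation group of `α` and flips. -/
def permLift {α : Type v} (W : Subgroup (Equiv.Perm α)) :
    Sd (Equiv.Perm (ZMod 2)) W →* Equiv.Perm (α × ZMod 2) :=
  MonoidHom.mk' (fun x =>
      (Equiv.prodCongrRight fun b => x.left b) * Equiv.prodCongrLeft fun _ => (x.right : Equiv.Perm α))
    fun x y => Equiv.ext fun t => by
      obtain ⟨b, t⟩ := t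
      refine Prod.ext rfl ?_
      simp [Equiv.Perm.mul_apply, SemidirectProduct.mul_left, SemidirectProduct.mul_right,
        shift_apply, Equiv.prodCongrLeft, Equiv.prodCongrRight]

theorem permLift_apply {α : Type v} {W : Subgroup (Equiv.Perm α)} (x : Sd (Equiv.Perm (ZMod 2)) W)
    (b : α) (t : ZMod 2) :
    permLift W x (b, t) = ((x.right : Equiv.Perm α) b, x.left ((x.right : Equiv.Perm α) b) t) := rfl

/-- All elements of the base component appear in the derived term. -/
def Full {α : Type v} (W : Subgroup (Equiv.Perm α)) (j : ℕ) : Prop :=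
  ∃ a : α, ∀ (R : Type u) [Group R] (r : R), ∃ f : α → R, f a = r ∧
    (SemidirectProduct.inl f : Sd R W) ∈ derivedSeries (Sd R W) j

/-- The permutation groups with long derived series. -/
theorem exists_full : ∀ j : ℕ, ∃ (α : Type) (_ : Fintype α) (W : Subgroup (Equiv.Perm α)),
    Fintype.card α = 2 ^ j ∧ IsPGroup 2 W ∧ Full.{u} W j := by
  intro j
  induction j with
  | zero =>
    exact ⟨Fin 1, inferInstance, ⊥, by simp, IsPGroup.of_bot, 0, fun R _ r =>
      ⟨fun _ => r, rfl, Subgroup.mem_top _⟩⟩
  | succ j ih =>
    obtain ⟨α, _, W, hcard, hW, a, ha⟩ := ih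
    refine ⟨α × ZMod 2, inferInstance, (permLift W).range, by simp [hcard, pow_succ], ?_, (a, 0), ?_⟩
    · refine IsPGroup.of_surjective ?_ (permLift W).rangeRestrict (permLift W).rangeRestrict_surjective
      obtain ⟨k, hk⟩ := IsPGroup.iff_card.1 hW
      refine IsPGroup.of_card (n := Fintype.card α + k) ?_
      rw [SemidirectProduct.card, Nat.card_fun, hk, Nat.card_perm, Nat.card_zmod, pow_add,
        Nat.card_eq_fintype_card (α := α)]
      norm_num
    intro Q _ q
    let T : Subgroup (Equiv.Perm (ZMod 2)) := ⊤
    let base : Sd (Sd Q T) W →* Sd (Equiv.Perm (ZMod 2)) W :=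
      SemidirectProduct.map
        (MonoidHom.compLeft (T.subtype.comp SemidirectProduct.rightHom) α) (MonoidHom.id _)
        fun _ => rfl
    let Θ : Sd (Sd Q T) W →* Sd Q (permLift W).range :=
      MonoidHom.mk' (fun x => ⟨fun bt => (x.left bt.1).left bt.2, ⟨permLift W (base x), base x, rfl⟩⟩)
        fun x y => SemidirectProduct.ext (funext fun bt => by
          obtain ⟨b, t⟩ := bt
          simp only [SemidirectProduct.mul_left, MonoidHom.comp_apply, Subgroup.coe_subtype, shift_apply,
            Pi.mul_apply]
          congr 1) (Subtype.ext (by simp [map_mul]))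
    obtain ⟨f, hfa, hf⟩ := ha (Sd Q T) (SemidirectProduct.inl (Pi.mulSingle 0 q))
    obtain ⟨f', hfa', hf'⟩ := ha (Sd Q T) (SemidirectProduct.inr ⟨Equiv.addLeft 1, Subgroup.mem_top _⟩)
    refine ⟨fun bt => (⁅f, f'⁆ bt.1).left bt.2, ?_, ?_⟩
    · show (⁅f a, f' a⁆).left 0 = q
      rw [hfa, hfa', commutatorElement_def]
      simp [SemidirectProduct.mul_left, SemidirectProduct.inv_left, shift_apply]
    · have hmem := map_derivedSeries_le_derivedSeries Θ (j + 1)
        (Subgroup.mem_map_of_mem Θ (Subgroup.commutator_mem_commutator hf hf'))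
      rw [← map_commutatorElement] at hmem
      convert hmem using 1
      refine SemidirectProduct.ext rfl (Subtype.ext ?_)
      show (1 : Equiv.Perm (α × ZMod 2)) = permLift W (base (SemidirectProduct.inl ⁅f, f'⁆))
      have hb : base (SemidirectProduct.inl ⁅f, f'⁆) = 1 := by
        refine SemidirectProduct.ext (funext fun b => ?_) rfl
        show T.subtype (SemidirectProduct.rightHom ⁅f b, f' b⁆) = (1 : Equiv.Perm (ZMod 2))
        rw [map_commutatorElement, map_commutatorElement, commutatorElement_eq_one_iff_commute]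
        exact perm_zmod_two _ _
      rw [hb, map_one]

end CfsgLib.KnownC.SylowDerived
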