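import Cfsg.Agent.Lib.KnownC.SylowDerived.Basic
import Cfsg.Agent.Lib.Classical.LinearTwoSylowMaps

/-!
# The derived length of the Sylow `2`-subgroups of symplectic groups in odd characteristic
-/

set_option autoImplicit false

namespace CfsgLib.KnownC.SylowDerived

open Matrix CfsgLib.Classical CfsgLib.Classical.WreathGL CfsgLib.Classical.LinearTwoSylow
open scoped commutatorElement MatrixGroups

universe u

theorem quaternion_derived {k : ℕ} (hk : 1 ≤ k) :
    derivedSeries (QuaternionGroup (2 ^ k)) 2 = ⊥ ∧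
      ∃ x y : QuaternionGroup (2 ^ k), ⁅x, y⁆ ≠ 1 := by
  constructor
  · let χ : QuaternionGroup (2 ^ k) →* Multiplicative (ZMod 2) :=
      MonoidHom.mk' (fun g => match g with
        | QuaternionGroup.a _ => 1
        | QuaternionGroup.xa _ => Multiplicative.ofAdd (1 : ZMod 2)) fun g h => by
        rcases g with i | i <;> rcases h with j | j <;>
          simp [QuaternionGroup.a_mul_a, QuaternionGroup.a_mul_xa, QuaternionGroup.xa_mul_a,
            QuaternionGroup.xa_mul_xa] <;> decide
    have hk' : ∀ g, g ∈ χ.ker → ∃ i, g = QuaternionGroup.a i := by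
      intro g hg
      rcases g with i | i
      · exact ⟨i, rfl⟩
      · exact absurd (MonoidHom.mem_ker.1 hg)
          (show Multiplicative.ofAdd (1 : ZMod 2) ≠ 1 by decide)
    refine derived_add_bot χ.ker (a := 1) (b := 1) ?_ ?_
    · rw [derivedSeries_one]
      exact Abelianization.commutator_subset_ker χ
    · rw [derivedSeries_one, _root_.commutator_def, eq_bot_iff, Subgroup.commutator_le]
      intro a _ b _
      rw [Subgroup.mem_bot, commutatorElement_eq_one_iff_commute]
      obtain ⟨i, hi⟩ := hk' a a.2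
      obtain ⟨j, hj⟩ := hk' b b.2
      refine Subtype.ext ?_
      rw [Subgroup.coe_mul, Subgroup.coe_mul, hi, hj, QuaternionGroup.a_mul_a, QuaternionGroup.a_mul_a,
        add_comm]
  · refine ⟨QuaternionGroup.a 1, QuaternionGroup.xa 0, fun h => ?_⟩
    rw [commutatorElement_eq_one_iff_commute] at h
    have h' : (QuaternionGroup.a 1 : QuaternionGroup (2 ^ k)) * QuaternionGroup.xa 0
        = QuaternionGroup.xa 0 * QuaternionGroup.a 1 := h
    rw [QuaternionGroup.a_mul_xa, QuaternionGroup.xa_mul_a, QuaternionGroup.xa.injEq, zero_add, zero_sub] at h'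
    have h2 : ((2 : ℕ) : ZMod (2 * 2 ^ k)) = 0 := by
      rw [show ((2 : ℕ) : ZMod (2 * 2 ^ k)) = 1 + 1 by norm_num]
      nth_rewrite 1 [← h']
      simp
    rw [ZMod.natCast_eq_zero_iff] at h2
    have : 2 * 2 ^ k ≤ 2 := Nat.le_of_dvd two_pos h2
    have : 2 ^ 1 ≤ 2 ^ k := Nat.pow_le_pow_right two_pos hk
    omega

/-- A Sylow subgroup is isomorphic to any injected group of the same order. -/
theorem exists_sylow_equiv {G : Type*} [Group G] [Finite G] {H : Type*} [Group H] (p : ℕ) [Fact p.Prime]
    (ψ : H →* G) (hψ : Function.Injective ψ) (hcard : Nat.card H = p ^ (Nat.card G).factorization p)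
    (P : Sylow p G) : Nonempty (H ≃* (P : Subgroup G)) := by
  obtain ⟨e⟩ : Nonempty (H ≃* ψ.range) := ⟨MonoidHom.ofInjective hψ⟩
  have hc : Nat.card ψ.range = p ^ (Nat.card G).factorization p := by
    rw [← hcard, Nat.card_congr e.toEquiv]
  exact ⟨e.trans ((Sylow.ofCard ψ.range hc).equiv P)⟩

variable {F : Type u} [Field F] [Fintype F]

/-- The derived length of the model of a Sylow subgroup. -/
theorem wreath_derived {n : ℕ} (hn : 1 ≤ n) (Q : Subgroup (GL (Fin 2) F)) (hQ2 : derivedSeries Q 2 = ⊥)
    (hQc : ∃ x y : Q, ⁅x, y⁆ ≠ 1) :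
    ∃ W : Sylow 2 (Equiv.Perm (Fin n)),
      derivedSeries (sub (full (n := n) Q) (W : Subgroup (Equiv.Perm (Fin n)))
        (fun σ _ _ hg => act_mem_full Q σ hg)) (Nat.log 2 n + 2) = ⊥ ∧
      derivedSeries (sub (full (n := n) Q) (W : Subgroup (Equiv.Perm (Fin n)))
        (fun σ _ _ hg => act_mem_full Q σ hg)) (Nat.log 2 n + 1) ≠ ⊥ := by
  classical
  obtain ⟨α, _, V, hcard, hV, a, ha⟩ := exists_full.{u} (Nat.log 2 n)
  obtain ⟨e⟩ : Nonempty (α ↪ Fin n) := Function.Embedding.nonempty_of_card_le (by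
    rw [hcard, Fintype.card_fin]
    exact Nat.pow_log_le_self 2 (by omega))
  let φ : Equiv.Perm α →* Equiv.Perm (Fin n) :=
    Equiv.Perm.ofSubtype.comp (Equiv.permCongrHom (Equiv.ofInjective e e.injective)).toMonoidHom
  have hφe : ∀ σ b, φ σ (e b) = e (σ b) := fun σ b => by
    have h : Equiv.Perm.ofSubtype ((Equiv.ofInjective e e.injective).permCongr σ)
        ((⟨e b, b, rfl⟩ : Set.range e) : Fin n) = e (σ b) := by
      rw [Equiv.Perm.ofSubtype_apply_coe, Equiv.permCongr_apply, Equiv.ofInjective_symm_apply]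
      rfl
    exact h
  have hφn : ∀ σ i, i ∉ Set.range e → φ σ i = i := fun σ i hi =>
    Equiv.Perm.ofSubtype_apply_of_not_mem _ hi
  obtain ⟨W, hW⟩ := (hV.map φ).exists_le_sylow
  refine ⟨W, ?_, ?_⟩
  · set K := sub (full (n := n) Q) (W : Subgroup (Equiv.Perm (Fin n))) (fun σ _ _ hg => act_mem_full Q σ hg)
    let π : K →* (W : Subgroup (Equiv.Perm (Fin n))) :=
      MonoidHom.mk' (fun x => ⟨x.1.right, x.2.2⟩) fun x y => rfl
    have h1 : derivedSeries (W : Subgroup (Equiv.Perm (Fin n))) (Nat.log 2 n) = ⊥ := by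
      have h := derived_le_ker W.2 n (W : Subgroup (Equiv.Perm (Fin n))).subtype (Nat.log 2 n)
        (Nat.card_fin n) (Nat.lt_pow_succ_log_self (by norm_num) n)
      rwa [Subgroup.ker_subtype, le_bot_iff] at h
    refine derived_add_bot π.ker ?_ ?_
    · have h := map_derivedSeries_le_derivedSeries π (Nat.log 2 n)
      rwa [h1, le_bot_iff, Subgroup.map_eq_bot_iff] at h
    · rw [eq_bot_iff]
      intro x hx
      rw [Subgroup.mem_bot]
      have hr : (x : K).1.right = 1 := congrArg Subtype.val (MonoidHom.mem_ker.1 x.2)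
      refine Subtype.ext (Subtype.ext (SemidirectProduct.ext (funext fun i => ?_) hr))
      let ev : π.ker →* Q :=
        MonoidHom.mk' (fun y => ⟨(y : K).1.left i, (Subgroup.mem_pi Set.univ).1 (y : K).2.1 i trivial⟩)
          fun y y' => Subtype.ext (by
            have hy : (y : K).1.right = 1 := congrArg Subtype.val (MonoidHom.mem_ker.1 y.2)
            simp [SemidirectProduct.mul_left, hy])
      have h := map_derivedSeries_le_derivedSeries ev 2 (Subgroup.mem_map_of_mem ev hx)
      rw [hQ2, Subgroup.mem_bot] at h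
      exact congrArg Subtype.val h
  · intro hbot
    set K := sub (full (n := n) Q) (W : Subgroup (Equiv.Perm (Fin n))) (fun σ _ _ hg => act_mem_full Q σ hg)
    let emb : (α → Q) → Fin n → GL (Fin 2) F := fun f => Function.extend e (fun b => (f b : GL (Fin 2) F)) 1
    have hembK : ∀ f, emb f ∈ full (n := n) Q := fun f => by
      refine (Subgroup.mem_pi Set.univ).2 fun i _ => ?_
      by_cases hi : ∃ b, e b = i
      · obtain ⟨b, rfl⟩ := hi
        simp only [emb]
        rw [e.injective.extend_apply]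
        exact (f b).2
      · simp only [emb]
        rw [Function.extend_apply' _ _ _ hi]
        exact one_mem _
    let Λ : Sd Q V →* K :=
      MonoidHom.mk' (fun x => ⟨⟨emb x.left, φ (x.right : Equiv.Perm α)⟩,
        hembK _, hW (Subgroup.mem_map_of_mem φ x.right.2)⟩) fun x y => by
        refine Subtype.ext (SemidirectProduct.ext (funext fun i => ?_) (by simp [map_mul]))
        rw [Subgroup.coe_mul, SemidirectProduct.mul_left]
        show emb (x.left * shift Q α (x.right : Equiv.Perm α) y.left) i =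
          emb x.left i * emb y.left ((φ (x.right : Equiv.Perm α)).symm i)
        by_cases hi : ∃ b, e b = i
        · obtain ⟨b, rfl⟩ := hi
          have h2 : (φ (x.right : Equiv.Perm α)).symm (e b) = e ((x.right : Equiv.Perm α).symm b) := by
            rw [Equiv.symm_apply_eq, hφe, Equiv.apply_symm_apply]
          simp only [emb]
          rw [h2, e.injective.extend_apply, e.injective.extend_apply, e.injective.extend_apply]
          simp [shift_apply]
        · have h2 : (φ (x.right : Equiv.Perm α)).symm i = i := by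
            rw [Equiv.symm_apply_eq, hφn _ _ (fun ⟨b, hb⟩ => hi ⟨b, hb⟩)]
          simp only [emb]
          rw [h2, Function.extend_apply' _ _ _ hi, Function.extend_apply' _ _ _ hi,
            Function.extend_apply' _ _ _ hi]
          simp
    obtain ⟨x, y, hxy⟩ := hQc
    obtain ⟨f, hfa, hf⟩ := ha Q x
    obtain ⟨f', hfa', hf'⟩ := ha Q y
    have hmem := map_derivedSeries_le_derivedSeries Λ (Nat.log 2 n + 1)
      (Subgroup.mem_map_of_mem Λ (Subgroup.commutator_mem_commutator hf hf'))
    rw [hbot, Subgroup.mem_bot, ← map_commutatorElement] at hmem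
    refine hxy (Subtype.ext ?_)
    have h := congrArg (fun t : K => (t : Wr F 2 n).left (e a)) hmem
    simp only [Λ, emb, MonoidHom.mk'_apply, SemidirectProduct.left_inl] at h
    rw [e.injective.extend_apply] at h
    rw [← hfa, ← hfa']
    exact h

/-- The derived length of the Sylow `2`-subgroups of `Sp_{2n}(q)`, `q` odd. -/
theorem symplectic_derived (hF : Odd (Fintype.card F)) {n : ℕ} (hn : 1 ≤ n)
    (R : Sylow 2 (symplecticGroup (Fin n) F)) :
    derivedSeries (R : Subgroup (symplecticGroup (Fin n) F)) (Nat.log 2 n + 2) = ⊥ ∧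
      derivedSeries (R : Subgroup (symplecticGroup (Fin n) F)) (Nat.log 2 n + 1) ≠ ⊥ := by
  classical
  obtain ⟨Q₀⟩ := (inferInstance : Nonempty (Sylow 2 SL(2, F)))
  set Q : Subgroup (GL (Fin 2) F) := (Q₀ : Subgroup SL(2, F)).map SpecialLinearGroup.toGL
  obtain ⟨k, hk, -, ⟨e₀⟩⟩ := sl2_sylow_two hF Q₀
  let e : Q ≃* QuaternionGroup (2 ^ k) :=
    ((Q₀ : Subgroup SL(2, F)).equivMapOfInjective _ toGL_inj).symm.trans e₀
  obtain ⟨hq2, x, y, hxy⟩ := quaternion_derived hk
  obtain ⟨W, hup, hlow⟩ := wreath_derived (F := F) hn Q ((derived_bot_equiv e 2).2 hq2)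
    ⟨e.symm x, e.symm y, fun h => hxy (by simpa [map_commutatorElement] using congrArg e h)⟩
  set K := sub (full (n := n) Q) (W : Subgroup (Equiv.Perm (Fin n))) (fun σ _ _ hg => act_mem_full Q σ hg)
  have hK : ∀ z ∈ K, ∀ i, GeneralLinearGroup.det ((z : Wr F 2 n).left i) = 1 := fun z hz i => by
    obtain ⟨w, -, hw⟩ := (Subgroup.mem_pi Set.univ).1 hz.1 i trivial
    rw [← hw]
    exact Units.ext w.2
  obtain ⟨eR⟩ := exists_sylow_equiv 2 (toSp K hK) (toSp_injective K hK) (by
    rw [card_sub, card_full, Subgroup.card_map_of_injective toGL_inj, Sylow.card_eq_multiplicity,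
      Sylow.card_eq_multiplicity, val_sl_two hF, val_sp hF, ← pow_mul, ← pow_add, mul_comm n,
      Nat.card_perm, Nat.card_eq_fintype_card, Fintype.card_fin,
      Nat.factorization_def _ Nat.prime_two]) R
  exact ⟨(derived_bot_equiv eR _).1 hup, fun h => hlow ((derived_bot_equiv eR _).2 h)⟩

end CfsgLib.KnownC.SylowDerived
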